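import Cfsg.Agent.H463.Cls.Lin

/-!
# T8b of S4148 : two objects
-/

set_option autoImplicit false

namespace Cfsg.Agent.H463.Cls

open scoped Pointwise commutatorElement
open Cfsg.Agent.H822.Cls Subgroup

universe u

variable {L : Type u} [Group L]

/-- a product of elements of independent normal subgroups is centralised by the common centraliser only -/
theorem exists_prod (𝒩 : Finset (Subgroup L)) (hn : ∀ N ∈ 𝒩, N.Normal) (hind : sSupIndep (𝒩 : Set (Subgroup L)))
    (f : Subgroup L → L) (hf : ∀ N ∈ 𝒩, f N ∈ N) :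
    ∃ x ∈ sSup (𝒩 : Set (Subgroup L)), ∀ N ∈ 𝒩, centralizer ({x} : Set L) ≤ centralizer ({f N} : Set L) := by
  classical
  induction 𝒩 using Finset.induction_on with
  | empty => exact ⟨1, one_mem _, by simp⟩
  | insert N 𝒩 hN ih =>
    have hsub : (𝒩 : Set (Subgroup L)) ⊆ ((insert N 𝒩 : Finset (Subgroup L)) : Set (Subgroup L)) := by
      intro A hA
      simpa using Or.inr hA
    obtain ⟨y, hy, hy'⟩ := ih (fun A hA => hn A (Finset.mem_insert_of_mem hA)) (hind.mono hsub)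
      (fun A hA => hf A (Finset.mem_insert_of_mem hA))
    have hNn := hn N (Finset.mem_insert_self N 𝒩)
    have hSn : (sSup (𝒩 : Set (Subgroup L))).Normal :=
      Subgroup.sSup_normal _ fun A hA => hn A (Finset.mem_insert_of_mem hA)
    have hfN := hf N (Finset.mem_insert_self N 𝒩)
    have hdis : Disjoint N (sSup (𝒩 : Set (Subgroup L))) := by
      have h1 := hind (show N ∈ ((insert N 𝒩 : Finset (Subgroup L)) : Set (Subgroup L)) by simp)
      refine h1.mono_right (sSup_le_sSup ?_)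
      intro A hA
      refine ⟨hsub hA, ?_⟩
      rintro rfl
      exact hN hA
    refine ⟨f N * y, ?_, ?_⟩
    · refine mul_mem (le_sSup (show N ∈ _ by simp) hfN) (sSup_le_sSup hsub hy)
    · have key : ∀ g ∈ centralizer ({f N * y} : Set L), g ∈ centralizer ({f N} : Set L) ∧
          g ∈ centralizer ({y} : Set L) := by
        intro g hg
        rw [mem_centralizer_singleton_iff] at hg
        rw [mem_centralizer_singleton_iff, mem_centralizer_singleton_iff]
        have h1 : (f N)⁻¹ * (g * f N * g⁻¹) = y * (g * y * g⁻¹)⁻¹ := by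
          have h2 : g * (f N * y) * g⁻¹ = f N * y := by rw [hg, mul_inv_cancel_right]
          have h3 : (g * f N * g⁻¹) * (g * y * g⁻¹) = f N * y := by
            rw [← h2]; group
          rw [inv_mul_eq_iff_eq_mul, ← mul_assoc, eq_mul_inv_iff_mul_eq]
          exact h3
        have h4 : (f N)⁻¹ * (g * f N * g⁻¹) ∈ N := N.mul_mem (N.inv_mem hfN) (hNn.conj_mem _ hfN g)
        have h5 : y * (g * y * g⁻¹)⁻¹ ∈ sSup (𝒩 : Set (Subgroup L)) :=
          mul_mem hy (inv_mem (hSn.conj_mem _ hy g))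
        have h6 : (f N)⁻¹ * (g * f N * g⁻¹) = 1 := disjoint_def.1 hdis h4 (h1 ▸ h5)
        have h7 : y * (g * y * g⁻¹)⁻¹ = 1 := h1 ▸ h6
        rw [inv_mul_eq_one] at h6
        rw [mul_inv_eq_one] at h7
        constructor
        · rw [eq_mul_inv_iff_mul_eq] at h6
          exact h6.symm
        · rw [eq_mul_inv_iff_mul_eq] at h7
          exact h7.symm
      intro A hA g hg
      rcases Finset.mem_insert.1 hA with rfl | hA
      · exact (key g hg).1
      · exact hy' A hA (key g hg).2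

/-- the statement O1 -/
def O1 (L : Type u) [Group L] (R H : Subgroup L) : Prop :=
  ∃ x ∈ R, ∀ p : ℕ, p.Prime → p ∣ Nat.card H → ∀ P : Sylow p L,
    (Group.IsNilpotent (⁅R, (P : Subgroup L)⁆ : Subgroup L) → ⁅R, (P : Subgroup L)⁆ ≠ ⊥ → Moved p x) ∧
    (Good p (Nat.card R) → (∀ K : Subgroup L, K.Normal → K ≤ R → Group.IsNilpotent K →
      ∀ n, ¬ (⁅R, (P : Subgroup L)⁆).lowerCentralSeries n ≤ K) → Moved p x)

theorem O1_of_trivial [Finite L] [Group.IsSolvable L] (hX : ∀ N, LinearStmt.{u} N) {R H : Subgroup L}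
    (hS : Split R H) (hΦ : frattini L ⊓ R = ⊥) : O1 L R H := by
  classical
  have hR := hS.normal
  obtain ⟨𝒩, h𝒩, hind, hFc, hcent, hnil⟩ := exists_decomp R hR hΦ
  have hfin : 𝒩.Finite := Set.toFinite _
  have hFR : sSup 𝒩 ≤ R := sSup_le fun N hN => (h𝒩 N hN).2.1
  have hFn : (sSup 𝒩).Normal := Subgroup.sSup_normal _ fun N hN => (h𝒩 N hN).1
  have hch : ∀ N : Subgroup L, ∃ x : L, N ∈ 𝒩 → (x ∈ N ∧ x ≠ 1 ∧ ∀ p : ℕ, p.Prime → p ∣ Nat.card H →
      Good p (Nat.card R) → ∀ P : Sylow p L,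
      (∀ n, ¬ (⁅R, (P : Subgroup L)⁆).lowerCentralSeries n ≤ centralizer (N : Set L)) → Moved p x) := by
    intro N
    by_cases hN : N ∈ 𝒩
    · obtain ⟨h1, h2, h3, h4, h5⟩ := h𝒩 N hN
      obtain ⟨x, hx, hx1, hx2⟩ := exists_elt hX hS N h1 h2 h3 h4 h5
      exact ⟨x, fun _ => ⟨hx, hx1, hx2⟩⟩
    · exact ⟨1, fun h => absurd h hN⟩
  choose f hf using hch
  obtain ⟨x, hx, hx'⟩ := exists_prod hfin.toFinset (fun N hN => (h𝒩 N (hfin.mem_toFinset.1 hN)).1)
    (by rwa [hfin.coe_toFinset]) f (fun N hN => (hf N (hfin.mem_toFinset.1 hN)).1)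
  rw [hfin.coe_toFinset] at hx
  have hmv : ∀ p : ℕ, ∀ N ∈ 𝒩, Moved p (f N) → Moved p x := fun p N hN h =>
    h.trans (index_dvd_of_le (hx' N (hfin.mem_toFinset.2 hN)))
  refine ⟨x, hFR hx, fun p hp hpH P => ?_⟩
  have : Fact p.Prime := ⟨hp⟩
  obtain ⟨P₀, hP₀⟩ := exists_sylow_le hS hpH
  have hXn := comm_normal hS hP₀
  have hXR := comm_le hS (P₀ : Subgroup L)
  rw [comm_eq hS hP₀ P]
  refine ⟨fun hXnil hX1 => ?_, fun hg hK => ?_⟩
  · have hXF := hnil _ hXn hXR hXnil
    obtain ⟨N, hN, hNP⟩ : ∃ N ∈ 𝒩, ¬ N ≤ centralizer ((P₀ : Subgroup L) : Set L) := by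
      by_contra hcon
      push Not at hcon
      apply hX1
      have h1 : sSup 𝒩 ≤ centralizer ((P₀ : Subgroup L) : Set L) := sSup_le hcon
      have h2 : ⁅⁅R, (P₀ : Subgroup L)⁆, (P₀ : Subgroup L)⁆ = ⊥ := by
        rw [commutator_eq_bot_iff_le_centralizer]
        exact hXF.trans h1
      rw [Lib.CoprimeCommutator.commutator_commutator_eq (P₀ : Subgroup L) R (by
        rw [normalizer_eq_top R]; exact le_top)
        (Nat.Coprime.symm (Nat.Coprime.coprime_dvd_right (card_dvd_of_le hP₀) hS.cop))] at h2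
      exact h2
    obtain ⟨hNn, hNR, hN1, hNc, hmin⟩ := h𝒩 N hN
    have hNF : N ≤ sSup 𝒩 := le_sSup hN
    have hC : (N ⊓ centralizer ((P₀ : Subgroup L) : Set L)).Normal := by
      rw [← normalizer_eq_top_iff, ← top_le_iff, ← hS.compl]
      have hstep : ∀ g : L, (∀ y ∈ (P₀ : Subgroup L), ∃ c ∈ sSup 𝒩, g⁻¹ * y * g = y * c) →
          ∀ c ∈ N ⊓ centralizer ((P₀ : Subgroup L) : Set L),
            g * c * g⁻¹ ∈ N ⊓ centralizer ((P₀ : Subgroup L) : Set L) := by
        intro g hg c hc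
        refine mem_inf.2 ⟨hNn.conj_mem c (mem_inf.1 hc).1 g, mem_centralizer_iff.2 fun y hy => ?_⟩
        obtain ⟨d, hd, hyd⟩ := hg y hy
        have h1 : y * c = c * y := mem_centralizer_iff.1 (mem_inf.1 hc).2 y hy
        have h2 : c * d = d * c := setLike_mul_comm (hNF (mem_inf.1 hc).1) hd
        have h3 : (g⁻¹ * y * g) * c = c * (g⁻¹ * y * g) := by
          rw [hyd, mul_assoc, ← h2, ← mul_assoc, h1, mul_assoc]
        calc y * (g * c * g⁻¹) = g * ((g⁻¹ * y * g) * c) * g⁻¹ := by group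
          _ = g * (c * (g⁻¹ * y * g)) * g⁻¹ := by rw [h3]
          _ = (g * c * g⁻¹) * y := by group
      have hRs : ∀ g ∈ R, ∀ y ∈ (P₀ : Subgroup L), ∃ c ∈ sSup 𝒩, g⁻¹ * y * g = y * c := by
        intro g hg y hy
        refine ⟨y⁻¹ * g⁻¹ * y * g, hXF ?_, by group⟩
        rw [commutator_comm]
        have h1 : ⁅y⁻¹, g⁻¹⁆ ∈ ⁅(P₀ : Subgroup L), R⁆ := commutator_mem_commutator (inv_mem hy) (inv_mem hg)
        rwa [commutatorElement_def, inv_inv, inv_inv] at h1
      have hHs : ∀ g ∈ H, ∀ y ∈ (P₀ : Subgroup L), ∃ c ∈ sSup 𝒩, g⁻¹ * y * g = y * c := by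
        intro g hg y hy
        refine ⟨1, one_mem _, ?_⟩
        rw [mul_assoc, ← hS.comm _ hg _ (hP₀ hy), inv_mul_cancel_left, mul_one]
      have hgen : ∀ g : L, (∀ c ∈ N ⊓ centralizer ((P₀ : Subgroup L) : Set L),
            g * c * g⁻¹ ∈ N ⊓ centralizer ((P₀ : Subgroup L) : Set L)) →
          (∀ c ∈ N ⊓ centralizer ((P₀ : Subgroup L) : Set L),
            g⁻¹ * c * g⁻¹⁻¹ ∈ N ⊓ centralizer ((P₀ : Subgroup L) : Set L)) →
          g ∈ normalizer ((N ⊓ centralizer ((P₀ : Subgroup L) : Set L) : Subgroup L) : Set L) := by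
        intro g h1 h2
        rw [mem_normalizer_iff]
        intro c
        refine ⟨h1 c, fun h3 => ?_⟩
        have h4 := h2 _ h3
        have h5 : g⁻¹ * (g * c * g⁻¹) * g⁻¹⁻¹ = c := by group
        rwa [h5] at h4
      refine sup_le (fun g hg => ?_) (fun g hg => ?_)
      · exact hgen g (hstep g (hRs g hg)) (hstep g⁻¹ (hRs g⁻¹ (R.inv_mem hg)))
      · exact hgen g (hstep g (hHs g hg)) (hstep g⁻¹ (hHs g⁻¹ (H.inv_mem hg)))
    have hCbot : N ⊓ centralizer ((P₀ : Subgroup L) : Set L) = ⊥ := by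
      rcases hmin _ hC inf_le_left with h1 | h1
      · exact h1
      · exact absurd (inf_eq_left.1 h1) hNP
    refine hmv p N hN ?_
    obtain ⟨hfN, hf1, -⟩ := hf N hN
    by_contra hnot
    -- a Sylow subgroup centralising `f N`
    let C : Subgroup L := centralizer ({f N} : Set L)
    let Q : Sylow p C := default
    have h1 : IsPGroup p ((Q : Subgroup C).map C.subtype) := Q.isPGroup'.map _
    have h2 : ¬ p ∣ ((Q : Subgroup C).map C.subtype).index := by
      rw [index_map_subtype, hp.dvd_mul]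
      exact fun h => h.elim Q.not_dvd_index hnot
    obtain ⟨r, hr, hrP⟩ := exists_conj hS hP₀ (h1.toSylow h2)
    have h3 : ∀ y ∈ (P₀ : Subgroup L), r * y * r⁻¹ ∈ C := by
      intro y hy
      have h4 : r * y * r⁻¹ ∈ (h1.toSylow h2 : Subgroup L) := by
        rw [hrP]
        exact ⟨y, hy, rfl⟩
      have h5 : r * y * r⁻¹ ∈ (Q : Subgroup C).map C.subtype := h4
      obtain ⟨z, -, hz⟩ := h5
      rw [← hz]
      exact z.2
    have h4 : r⁻¹ * f N * r ∈ N ⊓ centralizer ((P₀ : Subgroup L) : Set L) := by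
      refine mem_inf.2 ⟨?_, mem_centralizer_iff.2 fun y hy => ?_⟩
      · have := hNn.conj_mem _ hfN r⁻¹
        rwa [inv_inv] at this
      · have h5 : (r * y * r⁻¹) * f N = f N * (r * y * r⁻¹) := mem_centralizer_singleton_iff.1 (h3 y hy)
        calc y * (r⁻¹ * f N * r) = r⁻¹ * ((r * y * r⁻¹) * f N) * r := by group
          _ = r⁻¹ * (f N * (r * y * r⁻¹)) * r := by rw [h5]
          _ = (r⁻¹ * f N * r) * y := by group
    rw [hCbot, mem_bot] at h4
    apply hf1
    have h5 : f N = r * (r⁻¹ * f N * r) * r⁻¹ := by group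
    rw [h5, h4, mul_one, mul_inv_cancel]
  · -- good primes
    by_contra hnot
    have h1 : ∀ N ∈ 𝒩, ∃ n, (⁅R, (P₀ : Subgroup L)⁆).lowerCentralSeries n ≤ centralizer (N : Set L) := by
      intro N hN
      by_contra hcon
      push Not at hcon
      exact hnot (hmv p N hN ((hf N hN).2.2 p hp hpH hg P₀ hcon))
    have h2 : ∃ n, ∀ N ∈ 𝒩, (⁅R, (P₀ : Subgroup L)⁆).lowerCentralSeries n ≤ centralizer (N : Set L) := by
      choose! n hn using h1
      refine ⟨hfin.toFinset.sup n, fun N hN => ?_⟩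
      exact ((⁅R, (P₀ : Subgroup L)⁆).lowerCentralSeries_antitone
        (Finset.le_sup (hfin.mem_toFinset.2 hN))).trans (hn N hN)
    obtain ⟨n, hn⟩ := h2
    refine hK (sSup 𝒩) hFn hFR ?_ n ?_
    · exact isNilpotent_of_commutator_le (by
        have h3 := comm_iff_le_centralizer.1 hFc
        exact (commutator_le_left _ _).trans h3)
    · refine le_trans ?_ hcent
      refine le_inf ((lowerCentralSeries_le_self _ n).trans hXR) ?_
      rw [le_centralizer_iff]
      refine sSup_le fun N hN => ?_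
      rw [le_centralizer_iff]
      exact hn N hN

theorem comm_eq_bot [Finite L] {R H : Subgroup L} (hS : Split R H) {p : ℕ} [hp : Fact p.Prime]
    (hpH : p ∣ Nat.card H) (P : Sylow p L) (h : ⁅R, (P : Subgroup L)⁆ ≤ frattini L) :
    ⁅R, (P : Subgroup L)⁆ = ⊥ := by
  have hR := hS.normal
  obtain ⟨P₀, hP₀⟩ := exists_sylow_le hS hpH
  rw [comm_eq hS hP₀ P] at h ⊢
  obtain ⟨N, hN⟩ : ∃ N : Subgroup L, N = ⁅R, (P₀ : Subgroup L)⁆ := ⟨_, rfl⟩
  have hNn : N.Normal := hN ▸ comm_normal hS hP₀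
  rw [← hN] at h ⊢
  have hM : (N ⊔ (P₀ : Subgroup L)).Normal := by
    rw [← normalizer_eq_top_iff, ← top_le_iff, ← hS.compl]
    have hstep : ∀ g : L, (∀ y ∈ (P₀ : Subgroup L), g * y * g⁻¹ ∈ N ⊔ (P₀ : Subgroup L)) →
        ∀ c ∈ N ⊔ (P₀ : Subgroup L), g * c * g⁻¹ ∈ N ⊔ (P₀ : Subgroup L) := by
      intro g hg
      have h1 : N ⊔ (P₀ : Subgroup L) ≤ (N ⊔ (P₀ : Subgroup L)).comap (MulAut.conj g).toMonoidHom :=
        sup_le (fun c hc => mem_sup_left (hNn.conj_mem c hc g)) hg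
      exact fun c hc => h1 hc
    have hRs : ∀ g ∈ R, ∀ y ∈ (P₀ : Subgroup L), g * y * g⁻¹ ∈ N ⊔ (P₀ : Subgroup L) := by
      intro g hg y hy
      have h1 : g * y * g⁻¹ = (g * y * g⁻¹ * y⁻¹) * y := by group
      rw [h1]
      refine mul_mem (mem_sup_left ?_) (mem_sup_right hy)
      rw [hN]
      exact commutator_mem_commutator hg hy
    have hHs : ∀ g ∈ H, ∀ y ∈ (P₀ : Subgroup L), g * y * g⁻¹ ∈ N ⊔ (P₀ : Subgroup L) := by
      intro g hg y hy
      rw [hS.comm _ hg _ (hP₀ hy), mul_inv_cancel_right]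
      exact mem_sup_right hy
    have hgen : ∀ g : L, (∀ c ∈ N ⊔ (P₀ : Subgroup L), g * c * g⁻¹ ∈ N ⊔ (P₀ : Subgroup L)) →
        (∀ c ∈ N ⊔ (P₀ : Subgroup L), g⁻¹ * c * g⁻¹⁻¹ ∈ N ⊔ (P₀ : Subgroup L)) →
        g ∈ normalizer ((N ⊔ (P₀ : Subgroup L) : Subgroup L) : Set L) := by
      intro g h1 h2
      rw [mem_normalizer_iff]
      intro c
      refine ⟨h1 c, fun h3 => ?_⟩
      have h4 := h2 _ h3
      have h5 : g⁻¹ * (g * c * g⁻¹) * g⁻¹⁻¹ = c := by group
      rwa [h5] at h4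
    refine sup_le (fun g hg => ?_) (fun g hg => ?_)
    · exact hgen g (hstep g (hRs g hg)) (hstep g⁻¹ (hRs g⁻¹ (R.inv_mem hg)))
    · exact hgen g (hstep g (hHs g hg)) (hstep g⁻¹ (hHs g⁻¹ (H.inv_mem hg)))
  have h1 := Sylow.normalizer_sup_eq_top' P₀ (le_sup_right : (P₀ : Subgroup L) ≤ N ⊔ (P₀ : Subgroup L))
  have h2 : normalizer ((P₀ : Subgroup L) : Set L) ⊔ frattini L = ⊤ := by
    rw [← top_le_iff, ← h1]
    refine sup_le le_sup_left (sup_le (h.trans le_sup_right) (le_normalizer.trans le_sup_left))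
  have h3 := frattini_nongenerating h2
  have h4 : (P₀ : Subgroup L).Normal := normalizer_eq_top_iff.1 h3
  rw [eq_bot_iff, hN]
  have h5 : R ⊓ (P₀ : Subgroup L) = ⊥ := by
    exact (disjoint_of_coprime_natCard (Nat.Coprime.coprime_dvd_right (card_dvd_of_le hP₀) hS.cop)).eq_bot
  rw [← h5]
  exact commutator_le_inf R (P₀ : Subgroup L)

theorem isNilpotent_map {Q : Type*} [Group Q] (f : L →* Q) {X : Subgroup L} (h : Group.IsNilpotent X) :
    Group.IsNilpotent (X.map f) := by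
  rw [isNilpotent_iff_lowerCentralSeries] at h ⊢
  obtain ⟨n, hn⟩ := h
  exact ⟨n, by rw [← map_lowerCentralSeries, hn, Subgroup.map_bot]⟩

theorem O1_all (hX : ∀ N, LinearStmt.{u} N) : ∀ (n : ℕ) (L : Type u) [Group L] [Finite L] [Group.IsSolvable L]
    (R H : Subgroup L), Nat.card R = n → Split R H → O1 L R H := by
  intro n
  induction n using Nat.strong_induction_on with
  | _ n ih =>
  intro L _ _ _ R H hn hS
  by_cases hΦ : frattini L ⊓ R = ⊥
  · exact O1_of_trivial hX hS hΦ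
  have hR := hS.normal
  obtain ⟨N, hNdef⟩ : ∃ N : Subgroup L, N = frattini L ⊓ R := ⟨_, rfl⟩
  rw [← hNdef] at hΦ
  have hNn : N.Normal := hNdef ▸ inferInstance
  have hNR : N ≤ R := hNdef ▸ inf_le_right
  have hNF : N ≤ frattini L := hNdef ▸ inf_le_left
  let π := QuotientGroup.mk' N
  have hπ : Function.Surjective π := QuotientGroup.mk'_surjective N
  have hker : π.ker = N := QuotientGroup.ker_mk' N
  have hlt : Nat.card (R.map π) < n := by
    have h1 : (R.map π).index = R.index := by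
      rw [index_map, hker, sup_eq_left.2 hNR, MonoidHom.range_eq_top.2 hπ, index_top, mul_one]
    have h2 := (R.map π).card_mul_index
    have h3 := R.card_mul_index
    rw [h1, ← index_eq_card] at h2
    have h4 := N.card_mul_index
    have h5 : 1 < Nat.card N := by
      rw [Subgroup.one_lt_card_iff_ne_bot]; exact hΦ
    have h6 : 0 < N.index := Nat.pos_of_ne_zero index_ne_zero_of_finite
    rw [← hn]
    by_contra hle
    push Not at hle
    have h7 : Nat.card R * R.index ≤ Nat.card (R.map π) * R.index := Nat.mul_le_mul_right _ hle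
    rw [h2, h3, ← h4] at h7
    nlinarith
  obtain ⟨xb, ⟨x, hxR, rfl⟩, hall⟩ := ih _ hlt (L ⧸ N) (R.map π) (H.map π) rfl (Split.map hS π hπ)
  refine ⟨x, hxR, fun p hp hpH P => ?_⟩
  have : Fact p.Prime := ⟨hp⟩
  obtain ⟨ha, hb⟩ := hall p hp (dvd_map hS N hNR hp hpH) (P.mapSurjective hπ)
  have hcomm : ⁅R.map π, ((P.mapSurjective hπ : Sylow p (L ⧸ N)) : Subgroup (L ⧸ N))⁆ =
      (⁅R, (P : Subgroup L)⁆).map π := by
    rw [Sylow.coe_mapSurjective, map_commutator]
  rw [hcomm] at ha hb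
  constructor
  · intro hnil hne
    refine Moved.of_map π hπ (ha (isNilpotent_map π hnil) fun hbot => hne ?_)
    rw [Subgroup.map_eq_bot_iff, hker] at hbot
    exact comm_eq_bot hS hpH P (hbot.trans hNF)
  · intro hg hK
    refine Moved.of_map π hπ (hb (hg.mono fun q _ hqd => hqd.trans (card_map_dvd R π)) ?_)
    intro K hKn hKR hKnil m hm
    have hle : K.comap π ≤ R := by
      have h1 : K.comap π ≤ (R.map π).comap π := comap_mono hKR
      rwa [comap_map_eq, hker, sup_eq_left.2 hNR] at h1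
    refine hK (K.comap π) (hKn.comap π) hle ?_ m ?_
    · have hKc : (K.comap π).Normal := hKn.comap π
      refine Lib.FrattiniBasic.isNilpotent_of_map_isNilpotent (K.comap π) N hNF ?_
      have h1 : (K.comap π).map (QuotientGroup.mk' N) = K := map_comap_eq_self_of_surjective hπ K
      rw [h1]
      exact hKnil
    · rw [← map_le_iff_le_comap, map_lowerCentralSeries]
      exact hm

/-- **T8b.** -/
theorem two_objects (hX : ∀ N, LinearStmt.{u} N) : TwoObjects.{u} := by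
  intro L _ _ _ R H hS
  have hR := hS.normal
  obtain ⟨F, hF⟩ : ∃ F : Subgroup L, F = fittingSubgroup L ⊓ R := ⟨_, rfl⟩
  have hFn : F.Normal := hF ▸ inferInstance
  have hFR : F ≤ R := hF ▸ inf_le_right
  have hFnil : Group.IsNilpotent F := (Lib.Cores.le_fittingSubgroup_iff hFn).1 (hF ▸ inf_le_left)
  have hmax : ∀ K : Subgroup L, K.Normal → K ≤ R → Group.IsNilpotent K → K ≤ F := fun K hK hKR hKn =>
    hF ▸ le_inf (Lib.Cores.le_fittingSubgroup hK hKn) hKR
  obtain ⟨x₁, hx₁, h₁⟩ := O1_all hX _ L R H rfl hS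
  let π := QuotientGroup.mk' F
  have hπ : Function.Surjective π := QuotientGroup.mk'_surjective F
  have hker : π.ker = F := QuotientGroup.ker_mk' F
  obtain ⟨_, ⟨x₂, hx₂, rfl⟩, h₂⟩ := O1_all hX _ (L ⧸ F) (R.map π) (H.map π) rfl (Split.map hS π hπ)
  refine ⟨x₁, hx₁, x₂, hx₂, fun p hp hpH hg P hne => ?_⟩
  have : Fact p.Prime := ⟨hp⟩
  obtain ⟨ha, hb⟩ := h₁ p hp hpH P
  by_cases hnil : Group.IsNilpotent (⁅R, (P : Subgroup L)⁆ : Subgroup L)
  · exact Or.inl (ha hnil hne)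
  by_cases hK : ∀ K : Subgroup L, K.Normal → K ≤ R → Group.IsNilpotent K →
      ∀ n, ¬ (⁅R, (P : Subgroup L)⁆).lowerCentralSeries n ≤ K
  · exact Or.inl (hb hg hK)
  right
  push Not at hK
  obtain ⟨K, hKn, hKR, hKnil, n, hn⟩ := hK
  have hcomm : ⁅R.map π, ((P.mapSurjective hπ : Sylow p (L ⧸ F)) : Subgroup (L ⧸ F))⁆ =
      (⁅R, (P : Subgroup L)⁆).map π := by
    rw [Sylow.coe_mapSurjective, map_commutator]
  refine Moved.of_map π hπ ((h₂ p hp (dvd_map hS F hFR hp hpH) (P.mapSurjective hπ)).1 ?_ ?_)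
  · rw [hcomm, isNilpotent_iff_lowerCentralSeries]
    refine ⟨n, ?_⟩
    rw [← map_lowerCentralSeries, Subgroup.map_eq_bot_iff, hker]
    exact hn.trans (hmax K hKn hKR hKnil)
  · rw [hcomm]
    intro hbot
    rw [Subgroup.map_eq_bot_iff, hker] at hbot
    apply hnil
    rw [isNilpotent_iff_lowerCentralSeries] at hFnil ⊢
    obtain ⟨m, hm⟩ := hFnil
    exact ⟨m, le_bot_iff.1 (hm ▸ lowerCentralSeries_mono m hbot)⟩

end Cfsg.Agent.H463.Cls
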