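import Cfsg.Agent.H822.Cls.Props
import Cfsg.Agent.Lib.CoprimeCommutator
import Cfsg.Agent.Lib.FrattiniBasic
import Cfsg.Agent.Lib.Cores

/-!
# Basic facts on `Split` groups for T8b of S4148
-/

set_option autoImplicit false

namespace Cfsg.Agent.H463.Cls

open scoped Pointwise commutatorElement
open Cfsg.Agent.H822.Cls Subgroup

universe u

variable {L : Type u} [Group L]

theorem card_eq [Finite L] {R H : Subgroup L} (hS : Split R H) : Nat.card L = Nat.card R * Nat.card H := by
  have hR := hS.normal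
  have h1 : R.index ∣ Nat.card H := by
    have h2 : R.index = R.relIndex H := by
      rw [← relIndex_top_right, ← hS.compl, sup_comm, relIndex_sup_right]
    rw [h2]
    exact R.relIndex_dvd_card H
  have h3 := R.card_mul_index
  refine Nat.dvd_antisymm ?_ ?_
  · rw [← h3]
    exact Nat.mul_dvd_mul_left _ h1
  · exact Nat.Coprime.mul_dvd_of_dvd_of_dvd hS.cop (Subgroup.card_subgroup_dvd_card R)
      (Subgroup.card_subgroup_dvd_card H)

theorem index_right [Finite L] {R H : Subgroup L} (hS : Split R H) : H.index = Nat.card R := by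
  have h1 := card_eq hS
  have h2 := H.card_mul_index
  rw [h1, mul_comm] at h2
  exact Nat.eq_of_mul_eq_mul_right Nat.card_pos h2

theorem not_dvd_left [Finite L] {R H : Subgroup L} (hS : Split R H) {p : ℕ} (hp : p.Prime) (hpH : p ∣ Nat.card H) :
    ¬ p ∣ Nat.card R := fun h => hp.one_lt.ne' (Nat.dvd_one.1 (hS.cop ▸ Nat.dvd_gcd h hpH))

theorem exists_sylow_le [Finite L] {R H : Subgroup L} (hS : Split R H) {p : ℕ} [hp : Fact p.Prime]
    (hpH : p ∣ Nat.card H) : ∃ P₀ : Sylow p L, (P₀ : Subgroup L) ≤ H := by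
  let Q : Sylow p H := default
  have h1 : IsPGroup p ((Q : Subgroup H).map H.subtype) := Q.isPGroup'.map _
  have h2 : ¬ p ∣ ((Q : Subgroup H).map H.subtype).index := by
    rw [index_map_subtype, index_right hS, hp.out.dvd_mul]
    exact fun h => h.elim Q.not_dvd_index (not_dvd_left hS hp.out hpH)
  refine ⟨h1.toSylow h2, ?_⟩
  rintro _ ⟨x, -, rfl⟩
  exact x.2

theorem exists_mul {R H : Subgroup L} (hS : Split R H) (g : L) : ∃ r ∈ R, ∃ h ∈ H, g = r * h := by
  have hR := hS.normal
  have h1 : g ∈ R ⊔ H := hS.compl ▸ mem_top g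
  rw [mem_sup_of_normal_left] at h1
  obtain ⟨r, hr, h, hh, e⟩ := h1
  exact ⟨r, hr, h, hh, e.symm⟩

/-- all Sylow `p`-subgroups are conjugate under `R` -/
theorem exists_conj [Finite L] {R H : Subgroup L} (hS : Split R H) {p : ℕ} [hp : Fact p.Prime] {P₀ : Sylow p L}
    (hP₀ : (P₀ : Subgroup L) ≤ H) (P : Sylow p L) : ∃ r ∈ R, (P : Subgroup L) = (P₀ : Subgroup L).map
      (MulAut.conj r).toMonoidHom := by
  obtain ⟨g, hg⟩ := MulAction.exists_smul_eq L P₀ P
  obtain ⟨r, hr, h, hh, rfl⟩ := exists_mul hS g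
  refine ⟨r, hr, ?_⟩
  rw [← hg]
  ext x
  constructor
  · intro hx
    have h3 := (Subgroup.mem_pointwise_smul_iff_inv_smul_mem).1
      (show x ∈ MulAut.conj (r * h) • (P₀ : Subgroup L) from hx)
    have h4 : (r * h)⁻¹ * x * (r * h) ∈ (P₀ : Subgroup L) := by
      simpa [MulAut.smul_def, MulAut.conj_inv_apply, mul_assoc] using h3
    have h5 : h * ((r * h)⁻¹ * x * (r * h)) = ((r * h)⁻¹ * x * (r * h)) * h := hS.comm _ hh _ (hP₀ h4)
    refine ⟨_, h4, ?_⟩
    show r * ((r * h)⁻¹ * x * (r * h)) * r⁻¹ = x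
    have h6 : (r * h)⁻¹ * x * (r * h) = h * ((r * h)⁻¹ * x * (r * h)) * h⁻¹ := by
      rw [h5]; group
    rw [h6]
    group
  · rintro ⟨y, hy, rfl⟩
    show _ ∈ MulAut.conj (r * h) • (P₀ : Subgroup L)
    rw [Subgroup.mem_pointwise_smul_iff_inv_smul_mem]
    have h5 : h * y = y * h := hS.comm _ hh _ (hP₀ hy)
    have h6 : (MulAut.conj (r * h))⁻¹ • ((MulAut.conj r).toMonoidHom y) = y := by
      show (MulAut.conj (r * h))⁻¹ (r * y * r⁻¹) = y
      rw [MulAut.conj_inv_apply]
      have : (r * h)⁻¹ * (r * y * r⁻¹) * (r * h) = h⁻¹ * (y * h) := by group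
      rw [this, ← h5]
      group
    rw [h6]
    exact hy

theorem mem_normalizer_of_le {A : Subgroup L} {g : L} (h : A.map (MulAut.conj g).toMonoidHom = A) :
    g ∈ normalizer (A : Set L) := by
  rw [mem_normalizer_iff]
  intro x
  constructor
  · intro hx
    rw [← h]
    exact ⟨x, hx, rfl⟩
  · intro hx
    rw [← h] at hx
    obtain ⟨y, hy, hyx⟩ := hx
    have h1 : y = x := (MulAut.conj g).injective hyx
    rwa [← h1]

theorem map_conj_eq {A : Subgroup L} {g : L} (h : g ∈ normalizer (A : Set L)) :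
    A.map (MulAut.conj g).toMonoidHom = A := by
  ext x
  constructor
  · rintro ⟨y, hy, rfl⟩
    exact (mem_normalizer_iff.1 h y).1 hy
  · intro hx
    have h1 := (mem_normalizer_iff.1 (inv_mem h) x).1 hx
    refine ⟨_, h1, ?_⟩
    show g * (g⁻¹ * x * g⁻¹⁻¹) * g⁻¹ = x
    group

theorem comm_eq [Finite L] {R H : Subgroup L} (hS : Split R H) {p : ℕ} [hp : Fact p.Prime] {P₀ : Sylow p L}
    (hP₀ : (P₀ : Subgroup L) ≤ H) (P : Sylow p L) : ⁅R, (P : Subgroup L)⁆ = ⁅R, (P₀ : Subgroup L)⁆ := by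
  obtain ⟨r, hr, h1⟩ := exists_conj hS hP₀ P
  have h2 : R.map (MulAut.conj r).toMonoidHom = R := map_conj_eq (le_normalizer hr)
  have h3 := map_conj_eq (Lib.CoprimeCommutator.left_le_normalizer_commutator R (P₀ : Subgroup L) hr)
  rw [map_commutator, h2, ← h1] at h3
  exact h3

theorem comm_normal [Finite L] {R H : Subgroup L} (hS : Split R H) {p : ℕ} [hp : Fact p.Prime] {P₀ : Sylow p L}
    (hP₀ : (P₀ : Subgroup L) ≤ H) : (⁅R, (P₀ : Subgroup L)⁆).Normal := by
  have hR := hS.normal
  rw [← normalizer_eq_top_iff, ← top_le_iff, ← hS.compl]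
  refine sup_le (Lib.CoprimeCommutator.left_le_normalizer_commutator R _) fun h hh => ?_
  refine mem_normalizer_of_le ?_
  rw [map_commutator]
  have h1 : R.map (MulAut.conj h).toMonoidHom = R := map_conj_eq (by rw [normalizer_eq_top R]; exact mem_top h)
  have h2 : (P₀ : Subgroup L).map (MulAut.conj h).toMonoidHom = P₀ := by
    refine map_conj_eq ?_
    rw [mem_normalizer_iff]
    intro y
    constructor
    · intro hy
      rwa [hS.comm _ hh _ (hP₀ hy), mul_inv_cancel_right]
    · intro hy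
      have h3 := hS.comm _ (H.inv_mem hh) _ (hP₀ hy)
      have h4 : y = h * y * h⁻¹ := by
        have h5 : h⁻¹ * (h * y * h⁻¹) * h = y := by group
        rw [h3, inv_mul_cancel_right] at h5
        exact h5.symm
      rwa [h4]
  rw [h1, h2]

theorem comm_le [Finite L] {R H : Subgroup L} (hS : Split R H) (P : Subgroup L) : ⁅R, P⁆ ≤ R := by
  have hR := hS.normal
  exact commutator_le_left R P

/-! ### Quotients -/

theorem Moved.of_map {Q : Type*} [Group Q] [Finite L] (f : L →* Q) (hf : Function.Surjective f) {p : ℕ} {x : L}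
    (h : Moved p (f x)) : Moved p x := by
  refine h.trans (dvd_trans ?_ (index_map_dvd (centralizer ({x} : Set L)) hf))
  refine index_dvd_of_le ?_
  rintro _ ⟨y, hy, rfl⟩
  rw [mem_centralizer_singleton_iff]
  rw [SetLike.mem_coe, mem_centralizer_singleton_iff] at hy
  rw [← map_mul, ← map_mul, hy]

theorem Split.map {Q : Type*} [Group Q] [Finite L] {R H : Subgroup L} (hS : Split R H) (f : L →* Q)
    (hf : Function.Surjective f) : Split (R.map f) (H.map f) where
  normal := hS.normal.map f hf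
  comm := by
    rintro _ ⟨a, ha, rfl⟩ _ ⟨b, hb, rfl⟩
    rw [← map_mul, ← map_mul, hS.comm a ha b hb]
  cop := by
    have h1 : Nat.card (R.map f) ∣ Nat.card R := card_map_dvd R f
    have h2 : Nat.card (H.map f) ∣ Nat.card H := card_map_dvd H f
    exact Nat.Coprime.coprime_dvd_left h1 (Nat.Coprime.coprime_dvd_right h2 hS.cop)
  compl := by
    rw [← Subgroup.map_sup, hS.compl, ← MonoidHom.range_eq_map, MonoidHom.range_eq_top.2 hf]

theorem dvd_map [Finite L] {R H : Subgroup L} (hS : Split R H) (N : Subgroup L) [N.Normal] (hN : N ≤ R) {p : ℕ}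
    (hp : p.Prime) (hpH : p ∣ Nat.card H) : p ∣ Nat.card (H.map (QuotientGroup.mk' N)) := by
  have h1 : p ∣ Nat.card L := hpH.trans (card_subgroup_dvd_card H)
  rw [← N.card_mul_index, hp.dvd_mul] at h1
  have h2 : ¬ p ∣ Nat.card N := fun h => not_dvd_left hS hp hpH (h.trans (card_dvd_of_le hN))
  have h3 := h1.resolve_left h2
  rw [index_eq_card, card_eq (Split.map hS (QuotientGroup.mk' N) (QuotientGroup.mk'_surjective N)), hp.dvd_mul] at h3
  exact h3.resolve_left fun h => not_dvd_left hS hp hpH (h.trans (card_map_dvd R _))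

end Cfsg.Agent.H463.Cls
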