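import Cfsg.Agent.H822.Cls.Props
import Cfsg.Agent.SolvableStructure.AbelianSocle

/-!
# T8a of S4148 : the largest nilpotent normal subgroup inside `R` when `Φ(L) ∩ R = 1`
-/

set_option autoImplicit false

namespace Cfsg.Agent.H463.Cls

open scoped Pointwise commutatorElement
open Cfsg.Agent.H822.Cls Subgroup
open Cfsg.Agent.SolvableStructure.FrattiniTrivial Cfsg.Agent.SolvableStructure.AbelianSocle

universe u

variable {L : Type u} [Group L]

theorem sSup_comm {𝒩 : Set (Subgroup L)} (h : ∀ A ∈ 𝒩, ∀ B ∈ 𝒩, A ≤ centralizer (B : Set L)) :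
    sSup 𝒩 ≤ centralizer ((sSup 𝒩 : Subgroup L) : Set L) := by
  refine sSup_le fun A hA => ?_
  rw [le_centralizer_iff]
  exact sSup_le fun B hB => h B hB A hA

theorem comm_iff_le_centralizer {A : Subgroup L} : IsMulCommutative A ↔ A ≤ centralizer (A : Set L) := by
  constructor
  · intro h a ha
    rw [mem_centralizer_iff]
    intro b hb
    exact setLike_mul_comm hb ha
  · intro h
    exact IsMulCommutative.of_setLike_mul_comm fun a ha b hb => (mem_centralizer_iff.1 (h hb) a ha)

/-- a subgroup whose commutator subgroup is centralised by it is nilpotent -/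
theorem isNilpotent_of_commutator_le {K : Subgroup L} (h : ⁅K, K⁆ ≤ centralizer (K : Set L)) :
    Group.IsNilpotent K := by
  rw [isNilpotent_iff_lowerCentralSeries]
  refine ⟨2, ?_⟩
  show ⁅⁅K, K⁆, K⁆ = ⊥
  rw [commutator_eq_bot_iff_le_centralizer]
  exact h

theorem exists_decomp [Finite L] [Group.IsSolvable L] (R : Subgroup L) (hR : R.Normal)
    (h : frattini L ⊓ R = ⊥) : ∃ 𝒩 : Set (Subgroup L), (∀ N ∈ 𝒩, N.Normal ∧ N ≤ R ∧ N ≠ ⊥ ∧ IsMulCommutative N ∧
      ∀ N' : Subgroup L, N'.Normal → N' ≤ N → N' = ⊥ ∨ N' = N) ∧ sSupIndep 𝒩 ∧ IsMulCommutative (sSup 𝒩 : Subgroup L) ∧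
      R ⊓ Subgroup.centralizer ((sSup 𝒩 : Subgroup L) : Set L) ≤ sSup 𝒩 ∧
      ∀ N : Subgroup L, N.Normal → N ≤ R → Group.IsNilpotent N → N ≤ sSup 𝒩 := by
  classical
  let 𝒜 : Set (Subgroup L) := {N | N.Normal ∧ N ≤ R ∧ N ≠ ⊥ ∧ IsMulCommutative N ∧
      ∀ N' : Subgroup L, N'.Normal → N' ≤ N → N' = ⊥ ∨ N' = N}
  obtain ⟨𝒩, h𝒩⟩ := (Set.toFinite {S : Set (Subgroup L) | S ⊆ 𝒜 ∧ sSupIndep S}).exists_maximal
    ⟨∅, Set.empty_subset _, sSupIndep_empty⟩
  have hsub : 𝒩 ⊆ 𝒜 := h𝒩.1.1
  have hind : sSupIndep 𝒩 := h𝒩.1.2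
  have hnorm : ∀ S : Set (Subgroup L), S ⊆ 𝒜 → (sSup S).Normal := fun S hS =>
    Subgroup.sSup_normal _ fun N hN => (hS hN).1
  have hFn : (sSup 𝒩).Normal := hnorm 𝒩 hsub
  have hFR : sSup 𝒩 ≤ R := sSup_le fun N hN => (hsub hN).2.1
  have hFc : sSup 𝒩 ≤ centralizer ((sSup 𝒩 : Subgroup L) : Set L) := by
    refine sSup_comm fun A hA B hB => ?_
    by_cases hAB : A = B
    · subst hAB
      exact comm_iff_le_centralizer.1 (hsub hA).2.2.2.1
    · have hAn := (hsub hA).1
      have hBn := (hsub hB).1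
      have hd : Disjoint A B := hind.pairwiseDisjoint hA hB hAB
      intro a ha
      rw [mem_centralizer_iff]
      intro b hb
      exact (Subgroup.commute_of_normal_of_disjoint A B hAn hBn hd a b ha hb).eq.symm
  -- nilpotent normal subgroups
  have hnil : ∀ N : Subgroup L, N.Normal → N ≤ R → Group.IsNilpotent N → N ≤ sSup 𝒩 := by
    intro N hN hNR hNn
    have hNc : IsMulCommutative N := by
      have h1 : ⁅N, N⁆ = ⊥ := by
        rw [eq_bot_iff, ← h]
        exact le_inf (commutator_le_frattini N) ((commutator_le_left N N).trans hNR)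
      rw [commutator_eq_bot_iff_le_centralizer] at h1
      exact comm_iff_le_centralizer.2 h1
    have hAn : (sSup 𝒩 ⊓ N).Normal := inferInstance
    have hAc : IsMulCommutative (sSup 𝒩 ⊓ N : Subgroup L) :=
      IsMulCommutative.of_setLike_mul_comm fun a ha b hb => setLike_mul_comm ha.2 hb.2
    obtain ⟨H, hH⟩ := exists_isComplement' (sSup 𝒩 ⊓ N) (fun K _ hK hK1 => by
      by_contra hcon
      push Not at hcon
      apply hK1
      rw [eq_bot_iff, ← h]
      refine le_inf ?_ (hK.trans (inf_le_right.trans hNR))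
      rw [frattini, Order.radical]
      exact le_iInf₂ fun M hM => hcon M hM)
    have hAH := hH.sup_eq_top
    have hNH : N ⊔ H = ⊤ := by
      rw [eq_top_iff, ← hAH]
      exact sup_le_sup_right inf_le_right H
    have hn : (N ⊓ H).Normal := inf_normal_of_sup_eq_top hNH
    have hdis : (sSup 𝒩 ⊓ N) ⊓ H = ⊥ := hH.disjoint.eq_bot
    have hbot : N ⊓ H = ⊥ := by
      by_contra hne
      obtain ⟨K, hKn, hK1, hKN, hKm⟩ := exists_minimal_normal_le hn hne
      have hKA : K ∈ 𝒜 := by
        refine ⟨hKn, (hKN.trans inf_le_left).trans hNR, hK1, ?_, hKm⟩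
        exact IsMulCommutative.of_setLike_mul_comm fun a ha b hb =>
          setLike_mul_comm (hKN ha).1 (hKN hb).1
      have hKF : K ⊓ sSup 𝒩 = ⊥ := by
        rcases hKm (K ⊓ sSup 𝒩) inferInstance inf_le_left with h1 | h1
        · exact h1
        · exfalso
          apply hK1
          rw [eq_bot_iff, ← hdis]
          have h2 : K ≤ sSup 𝒩 := inf_eq_left.1 h1
          exact le_inf (le_inf h2 (hKN.trans inf_le_left)) (hKN.trans inf_le_right)
      have hKnot : K ∉ 𝒩 := fun hK => hK1 (by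
        rw [eq_bot_iff, ← hKF]
        exact le_inf le_rfl (le_sSup hK))
      have hins : sSupIndep (insert K 𝒩) := by
        intro A hA
        rcases Set.mem_insert_iff.1 hA with rfl | hA
        · rw [Set.insert_sdiff_of_mem _ (Set.mem_singleton A), disjoint_iff, eq_bot_iff, ← hKF]
          exact inf_le_inf_left _ (sSup_le_sSup Set.sdiff_subset)
        · have hAK : A ≠ K := fun h1 => hKnot (h1 ▸ hA)
          have h1 : insert K 𝒩 \ {A} = insert K (𝒩 \ {A}) :=
            Set.insert_sdiff_of_notMem _ (by simpa using Ne.symm hAK)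
          rw [h1, sSup_insert, disjoint_def]
          intro x hxA hx
          rw [mem_sup_of_normal_left] at hx
          obtain ⟨k, hk, s, hs, rfl⟩ := hx
          have hsF : s ∈ sSup 𝒩 := sSup_le_sSup (Set.sdiff_subset : 𝒩 \ {A} ⊆ 𝒩) hs
          have hxF : k * s ∈ sSup 𝒩 := le_sSup hA hxA
          have hkF : k ∈ sSup 𝒩 := by
            have := mul_mem hxF (inv_mem hsF)
            rwa [mul_inv_cancel_right] at this
          have hk1 : k = 1 := by
            have : k ∈ K ⊓ sSup 𝒩 := mem_inf.2 ⟨hk, hkF⟩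
            rwa [hKF, mem_bot] at this
          subst hk1
          rw [one_mul] at hxA ⊢
          exact disjoint_def.1 (hind hA) hxA hs
      have hle := h𝒩.2 ⟨Set.insert_subset hKA hsub, hins⟩ (Set.subset_insert K 𝒩)
      exact hKnot (hle (Set.mem_insert K 𝒩))
    intro x hx
    have h1 : x ∈ sSup 𝒩 ⊓ N ⊔ H := hAH ▸ mem_top x
    rw [mem_sup_of_normal_left] at h1
    obtain ⟨a, ha, b, hb, rfl⟩ := h1
    have hbN : b ∈ N := by
      have := N.mul_mem (N.inv_mem (mem_inf.1 ha).2) hx
      rwa [inv_mul_cancel_left] at this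
    have hb1 : b ∈ N ⊓ H := mem_inf.2 ⟨hbN, hb⟩
    rw [hbot, mem_bot] at hb1
    rw [hb1, mul_one]
    exact ha.1
  refine ⟨𝒩, fun N hN => hsub hN, hind, comm_iff_le_centralizer.2 hFc, ?_, hnil⟩
  -- the centraliser
  have key : ∀ n : ℕ, ∀ K : Subgroup L, Nat.card K = n → K.Normal → K ≤ R →
      K ≤ centralizer ((sSup 𝒩 : Subgroup L) : Set L) → K ≤ sSup 𝒩 := by
    intro n
    induction n using Nat.strong_induction_on with
    | _ n ih =>
      intro K hKn hK hKR hKC
      by_cases hK1 : K = ⊥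
      · rw [hK1]; exact bot_le
      have hlt : ⁅K, K⁆ < K := by
        refine lt_of_le_of_ne (commutator_le_left K K) fun h1 => ?_
        have hnt : Nontrivial K := (Subgroup.nontrivial_iff_ne_bot K).2 hK1
        have h2 := Group.IsSolvable.commutator_lt_top_of_nontrivial K
        apply h2.ne
        have h3 : (commutator K).map K.subtype = ⁅K, K⁆ := by
          rw [_root_.commutator_def, map_commutator, ← MonoidHom.range_eq_map, range_subtype]
        apply Subgroup.map_injective K.subtype_injective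
        rw [h3, h1, ← MonoidHom.range_eq_map, range_subtype]
      have hcard : Nat.card (⁅K, K⁆ : Subgroup L) < n := by
        rw [← hKn]
        exact Set.ncard_lt_ncard (by exact_mod_cast hlt) (Set.toFinite _)
      have h1 := ih _ hcard ⁅K, K⁆ rfl inferInstance (hlt.le.trans hKR) (hlt.le.trans hKC)
      refine hnil K hK hKR (isNilpotent_of_commutator_le ?_)
      refine h1.trans ?_
      rw [le_centralizer_iff]
      exact hKC
  exact key _ _ rfl inferInstance inf_le_left inf_le_right

end Cfsg.Agent.H463.Cls
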