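import Cfsg.Agent.H463.Cls.Basic
import Cfsg.Agent.H463.Cls.Decomp

/-!
# The modules of T8b of S4148
-/

set_option autoImplicit false

namespace Cfsg.Agent.H463.Cls

open scoped Pointwise commutatorElement
open Cfsg.Agent.H822.Cls Subgroup

universe u

variable {L : Type u} [Group L]

/-- a minimal normal abelian subgroup has prime exponent -/
theorem exists_prime_exp [Finite L] {N : Subgroup L} (hN : N.Normal) (hN1 : N ≠ ⊥) (hNc : IsMulCommutative N)
    (hmin : ∀ N' : Subgroup L, N'.Normal → N' ≤ N → N' = ⊥ ∨ N' = N) :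
    ∃ r : ℕ, r.Prime ∧ r ∣ Nat.card N ∧ ∀ x ∈ N, x ^ r = 1 := by
  have h1 : Nat.card N ≠ 1 := fun h => hN1 (eq_bot_of_card_eq N h)
  obtain ⟨r, hr, hd⟩ := Nat.exists_prime_and_dvd h1
  have : Fact r.Prime := ⟨hr⟩
  refine ⟨r, hr, hd, ?_⟩
  let K : Subgroup L :=
    { carrier := {x | x ∈ N ∧ x ^ r = 1}
      one_mem' := ⟨N.one_mem, one_pow r⟩
      mul_mem' := by
        rintro a b ⟨ha, ha'⟩ ⟨hb, hb'⟩
        have hc : Commute a b := setLike_mul_comm ha hb
        exact ⟨N.mul_mem ha hb, by rw [hc.mul_pow, ha', hb', one_mul]⟩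
      inv_mem' := by
        rintro a ⟨ha, ha'⟩
        exact ⟨N.inv_mem ha, by rw [inv_pow, ha', inv_one]⟩ }
  have hK : K.Normal := ⟨by
    rintro x ⟨hx, hx'⟩ g
    exact ⟨hN.conj_mem x hx g, by rw [conj_pow, hx', mul_one, mul_inv_cancel]⟩⟩
  rcases hmin K hK (fun x hx => hx.1) with h2 | h2
  · exfalso
    obtain ⟨x, hx⟩ := exists_prime_orderOf_dvd_card' (G := N) r hd
    have h3 : (x : L) ∈ K := ⟨x.2, by
      have := pow_orderOf_eq_one x
      rw [hx] at this
      exact congrArg Subtype.val this⟩
    rw [h2, mem_bot] at h3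
    have h4 : x = 1 := Subtype.ext h3
    rw [h4, orderOf_one] at hx
    exact hr.one_lt.ne hx
  · intro x hx
    rw [← h2] at hx
    exact hx.2

theorem exists_elt [Finite L] [Group.IsSolvable L] (hX : ∀ N, LinearStmt.{u} N) {R H : Subgroup L} (hS : Split R H)
    (N : Subgroup L) (hN : N.Normal) (hNR : N ≤ R) (hN1 : N ≠ ⊥) (hNc : IsMulCommutative N)
    (hmin : ∀ N' : Subgroup L, N'.Normal → N' ≤ N → N' = ⊥ ∨ N' = N) :
    ∃ x ∈ N, x ≠ 1 ∧ ∀ p : ℕ, p.Prime → p ∣ Nat.card H → Good p (Nat.card R) → ∀ P : Sylow p L,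
      (∀ n, ¬ (⁅R, (P : Subgroup L)⁆).lowerCentralSeries n ≤ centralizer (N : Set L)) → Moved p x := by
  classical
  obtain ⟨r, hr, hrN, hexp⟩ := exists_prime_exp hN hN1 hNc hmin
  letI cg : CommGroup N := { (inferInstance : Group N) with mul_comm := fun a b => hNc.is_comm.comm a b }
  letI act : DistribMulAction L (Additive N) :=
    { smul := fun g a => Additive.ofMul (MulAut.conjNormal g a.toMul)
      one_smul := fun a => by
        show Additive.ofMul (MulAut.conjNormal (1 : L) a.toMul) = a
        rw [map_one]; rfl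
      mul_smul := fun g h a => by
        show Additive.ofMul (MulAut.conjNormal (g * h) a.toMul) = _
        rw [map_mul]; rfl
      smul_zero := fun g => by
        show Additive.ofMul (MulAut.conjNormal g (1 : N)) = 0
        rw [map_one]; rfl
      smul_add := fun g a b => by
        show Additive.ofMul (MulAut.conjNormal g (a.toMul * b.toMul)) = _
        rw [map_mul]; rfl }
  have hsm : ∀ (g : L) (a : Additive N), (((g • a).toMul : N) : L) = g * (a.toMul : N) * g⁻¹ :=
    fun g a => MulAut.conjNormal_apply g a.toMul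
  have hnt : Nontrivial (Additive N) := by
    have := (Subgroup.nontrivial_iff_ne_bot N).2 hN1
    infer_instance
  have hirr : Irr L (Additive N) := by
    intro W hW
    let K : Subgroup L := (AddSubgroup.toSubgroup' W).map N.subtype
    have hKmem : ∀ x : N, (x : L) ∈ K ↔ Additive.ofMul x ∈ W := by
      intro x
      constructor
      · rintro ⟨y, hy, hyx⟩
        have h1 : y = x := Subtype.ext hyx
        rw [← h1]
        exact hy
      · intro hx
        exact ⟨x, hx, rfl⟩
    have hKN : K ≤ N := by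
      rintro _ ⟨y, -, rfl⟩
      exact y.2
    have hK : K.Normal := ⟨by
      intro x hx g
      have hxN := hKN hx
      have h1 := hW g _ ((hKmem ⟨x, hxN⟩).1 hx)
      have h2 := (hKmem (MulAut.conjNormal g ⟨x, hxN⟩)).2 h1
      rwa [MulAut.conjNormal_apply] at h2⟩
    rcases hmin K hK hKN with h1 | h1
    · left
      rw [eq_bot_iff]
      intro w hw
      have h2 := (hKmem w.toMul).2 hw
      rw [h1, mem_bot] at h2
      have h3 : w.toMul = 1 := Subtype.ext h2
      exact h3
    · right
      rw [eq_top_iff]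
      intro w _
      have h2 : ((w.toMul : N) : L) ∈ K := by
        rw [h1]
        exact (w.toMul).2
      exact (hKmem w.toMul).1 h2
  have hrR : r ∣ Nat.card R := hrN.trans (card_dvd_of_le hNR)
  have hrH : ¬ r ∣ Nat.card H := fun h => not_dvd_left hS hr h hrR
  obtain ⟨v, hv, hv'⟩ := hX (Nat.card (Additive N) + 1) L (Additive N) R H r (Nat.card R) (Nat.lt_succ_self _) hS hr
    (by
      intro w
      have h1 : w.toMul ^ r = 1 := Subtype.ext (hexp _ (w.toMul).2)
      exact h1)
    hrH hirr (fun _ _ h => h) hrR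
  refine ⟨((v.toMul : N) : L), (v.toMul).2, fun h1 => hv (by
    have h2 : v.toMul = 1 := Subtype.ext h1
    exact h2), ?_⟩
  intro p hp hpH hg P hP
  have h1 := hv' p hp hpH hg P (by
    rw [isNilpotent_iff_lowerCentralSeries]
    rintro ⟨n, hn⟩
    refine hP n fun x hx => ?_
    have h2 : DistribMulAction.toAddAut L (Additive N) x ∈
        ((⁅R, (P : Subgroup L)⁆).map (DistribMulAction.toAddAut L (Additive N))).lowerCentralSeries n := by
      rw [← map_lowerCentralSeries]
      exact mem_map_of_mem _ hx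
    rw [hn, mem_bot] at h2
    rw [mem_centralizer_iff]
    intro y hy
    have h3 : x • (Additive.ofMul (⟨y, hy⟩ : N)) = Additive.ofMul (⟨y, hy⟩ : N) := by
      have h4 := congrArg (fun f : Multiplicative (AddAut (Additive N)) => (Multiplicative.toAdd f) (Additive.ofMul (⟨y, hy⟩ : N))) h2
      exact h4
    have h5 := hsm x (Additive.ofMul (⟨y, hy⟩ : N))
    rw [h3] at h5
    have h6 : y = x * y * x⁻¹ := h5
    rw [eq_mul_inv_iff_mul_eq] at h6
    exact h6)
  have h2 : MulAction.stabilizer L v = centralizer ({((v.toMul : N) : L)} : Set L) := by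
    ext g
    rw [MulAction.mem_stabilizer_iff, mem_centralizer_singleton_iff]
    constructor
    · intro h3
      have h5 := hsm g v
      rw [h3] at h5
      rw [eq_mul_inv_iff_mul_eq] at h5
      exact h5.symm
    · intro h3
      have h5 := hsm g v
      have h6 : g * ((v.toMul : N) : L) * g⁻¹ = ((v.toMul : N) : L) := by
        rw [h3, mul_inv_cancel_right]
      rw [h6] at h5
      exact congrArg Additive.ofMul (Subtype.ext h5 : (g • v).toMul = v.toMul)
  rw [h2] at h1
  exact h1

end Cfsg.Agent.H463.Cls
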